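import Cfsg.Agent.H243.RIM.DzGen
import Cfsg.Agent.H243.RIM.Cent
import Cfsg.Agent.H24.M12.Pow
import Cfsg.Agent.H24.M12.Cls
import Cfsg.Agent.H109.QO.MTwelve
import Cfsg.Agent.MTwelveType.SylowModel

/-!
# S4816, RIM-S-M12: the double cover of `M₁₂`, faithful characters (helper243)

* `eight` : there are at least eight faithful irreducible characters;
* `eleven` : one of them has degree divisible by `11`.
-/

set_option autoImplicit false
set_option linter.unusedSectionVars false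
set_option maxRecDepth 100000

namespace Cfsg.Agent.H243.RIM.MTw

open Cfsg Subgroup Cfsg.Agent.H24.M12 Cfsg.Agent.H243.RIM
open Cfsg.Agent.H932.Mt hiding rp
open Cfsg.Agent.H622.Over
open Cfsg.Agent.H24.M12 (el_eq)

/-! ### The center -/

theorem mem_Z {z : Γ} (hz : z ∈ sig.ker) : z = 1 ∨ z = neg := eq_of_sig hz

theorem neg_mem_Z : neg ∈ sig.ker := sig_neg

theorem Z_le : sig.ker ≤ center Γ := by
  intro z hz
  rw [mem_center_iff]
  intro g
  rcases mem_Z hz with rfl | rfl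
  · rw [mul_one, one_mul]
  · exact (neg_comm g).symm

theorem card_Z : Nat.card sig.ker = 2 := Cfsg.Agent.H109.QO.MTwelve.card_ker

theorem card_G : Nat.card Γ = 190080 := by
  have h1 := card_eq_card_quotient_mul_card_subgroup sig.ker
  rw [card_Z, Nat.card_congr (QuotientGroup.quotientKerEquivOfSurjective sig sig_surjective).toEquiv,
    Cfsg.Agent.MTwelveType.SylowModel.card_M12] at h1
  rw [h1]

/-! ### Fixed points -/

/-- fixed signed points -/
def fx (g : Γ) : ℕ := (Finset.univ.filter fun k : Fin 24 => g.1.1 k = k).card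

/-- fixed rows -/
def fr (g : Γ) : ℕ := (Finset.univ.filter fun i : Fin 12 => lp g i = i).card

theorem fx_conj (x g : Γ) : fx (x * g * x⁻¹) = fx g := by
  unfold fx
  symm
  refine Finset.card_bij (fun k _ => x.1.1 k) ?_ ?_ ?_
  · intro k hk
    rw [Finset.mem_filter] at hk ⊢
    refine ⟨Finset.mem_univ _, ?_⟩
    change x.1.1 (g.1.1 (x.1.1⁻¹ (x.1.1 k))) = x.1.1 k
    rw [show x.1.1⁻¹ (x.1.1 k) = k from x.1.1.symm_apply_apply k, hk.2]
  · intro a _ b _ h
    exact x.1.1.injective h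
  · intro k hk
    rw [Finset.mem_filter] at hk
    refine ⟨x.1.1⁻¹ k, ?_, x.1.1.apply_symm_apply k⟩
    rw [Finset.mem_filter]
    refine ⟨Finset.mem_univ _, ?_⟩
    have h1 : x.1.1 (g.1.1 (x.1.1⁻¹ k)) = k := hk.2
    rw [Equiv.Perm.eq_inv_iff_eq]
    exact h1

theorem lp_one (i : Fin 12) : lp 1 i = i := by
  change idx (pos i) = i
  exact idx_pos i

theorem fr_conj (x g : Γ) : fr (x * g * x⁻¹) = fr g := by
  unfold fr
  symm
  have hx : ∀ i, lp x⁻¹ (lp x i) = i := fun i => by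
    rw [← lp_mul, inv_mul_cancel, lp_one]
  have hx' : ∀ i, lp x (lp x⁻¹ i) = i := fun i => by
    rw [← lp_mul, mul_inv_cancel, lp_one]
  refine Finset.card_bij (fun k _ => lp x k) ?_ ?_ ?_
  · intro k hk
    rw [Finset.mem_filter] at hk ⊢
    refine ⟨Finset.mem_univ _, ?_⟩
    rw [lp_mul, lp_mul, hx, hk.2]
  · intro a _ b _ h
    exact (lp x).injective h
  · intro k hk
    rw [Finset.mem_filter] at hk
    refine ⟨lp x⁻¹ k, ?_, hx' k⟩
    rw [Finset.mem_filter]
    refine ⟨Finset.mem_univ _, ?_⟩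
    have h1 := hk.2
    rw [lp_mul, lp_mul] at h1
    have h2 := congrArg (lp x⁻¹) h1
    rwa [hx] at h2

theorem lp_neg (i : Fin 12) : lp neg i = i := by
  change idx (neg.1.1 (pos i)) = i
  rw [Cfsg.Agent.H932.Mt.neg_apply, idx_ng, idx_pos]

theorem lp_mul_Z (g : Γ) {z : Γ} (hz : z ∈ sig.ker) (i : Fin 12) : lp (g * z) i = lp g i := by
  rw [lp_mul]
  rcases mem_Z hz with rfl | rfl
  · rw [lp_one]
  · rw [lp_neg]

theorem fr_mul_Z (g : Γ) {z : Γ} (hz : z ∈ sig.ker) : fr (g * z) = fr g := by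
  unfold fr
  simp only [lp_mul_Z g hz]

/-- fixed points of a word -/
def fxw (w : List ℕ) : ℕ := (Finset.univ.filter fun k : Fin 24 => aw w k.val = k.val).card

def frw (w : List ℕ) : ℕ := (Finset.univ.filter fun i : Fin 12 => aw w (2 * i.val) / 2 = i.val).card

theorem fx_el (w : List ℕ) : fx (el w) = fxw w := by
  unfold fx fxw
  congr 1
  apply Finset.filter_congr
  intro k _
  rw [← el_val, Fin.ext_iff]

theorem fr_el (w : List ℕ) : fr (el w) = frw w := by
  unfold fr frw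
  congr 1
  apply Finset.filter_congr
  intro i _
  rw [← lp_el, Fin.ext_iff]

/-- the code of a class modulo the center -/
def cd (g : Γ) : ℕ × ℕ := (fr g, fr (g ^ 2))

theorem cd_conj (x g : Γ) : cd (x * g * x⁻¹) = cd g := by
  unfold cd
  rw [fr_conj, conj_pow, fr_conj]

theorem cd_mul_Z (g : Γ) {z : Γ} (hz : z ∈ sig.ker) : cd (g * z) = cd g := by
  unfold cd
  have hc : Commute g z := mem_center_iff.1 (Z_le hz) g
  rw [fr_mul_Z g hz, hc.mul_pow, fr_mul_Z _ (pow_mem hz 2)]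

/-- the classes of the list -/
def kk : Fin 8 → ℕ := ![0, 1, 2, 3, 7, 8, 11, 12]

def cdw (w : List ℕ) : ℕ × ℕ := (frw w, frw (rpt 2 w))

theorem cd_rp (k : ℕ) : cd (rp k) = cdw (RW k) := by
  unfold cd cdw rp
  rw [← el_rpt, fr_el, fr_el]

theorem cd_table : ∀ i j : Fin 8, i ≠ j → cdw (RW (kk i)) ≠ cdw (RW (kk j)) ∨ (kk i = 11 ∧ kk j = 12) ∨
    (kk i = 12 ∧ kk j = 11) := by
  decide +kernel

/-! ### Good classes -/

section good

variable (c : sig.ker →* ℂˣ)

theorem good_of_fx {g : Γ} (h : fx g ≠ fx (neg * g)) : Good sig.ker c g := by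
  intro x hx
  rcases mem_Z hx with h1 | h1
  · have h2 : (⟨x⁻¹ * g⁻¹ * x * g, hx⟩ : sig.ker) = 1 := Subtype.ext h1
    rw [h2, map_one]
  · exfalso
    apply h
    have h2 : x⁻¹ * g⁻¹ * x = neg * g⁻¹ := eq_mul_inv_of_mul_eq h1
    have h3 : x⁻¹ * g * x⁻¹⁻¹ = neg * g := by
      calc x⁻¹ * g * x⁻¹⁻¹ = (x⁻¹ * g⁻¹ * x)⁻¹ := by group
        _ = g * neg⁻¹ := by rw [h2, mul_inv_rev, inv_inv]
        _ = g * neg := by rw [inv_eq_of_mul_eq_one_right neg_mul_neg']
        _ = neg * g := (neg_comm g).symm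
    rw [← h3, fx_conj]

theorem good_table : ∀ i : Fin 8, (Nat.Coprime (po (kk i)) 2 ∨ fxw (RW (kk i)) ≠ fxw (nw ++ RW (kk i))) ∧ kk i < 15 := by
  decide +kernel

theorem good_kk (i : Fin 8) : Good sig.ker c (rp (kk i)) := by
  obtain ⟨h | h, hk⟩ := good_table i
  · refine Cfsg.Agent.H849.RIM.good_of_coprime Z_le c (n := po (kk i)) ?_ (by rw [card_Z]; exact h)
    rw [← QuotientGroup.mk_pow, ← order_rp ⟨kk i, hk⟩, pow_orderOf_eq_one]
    rfl
  · apply good_of_fx
    have h1 : neg * rp (kk i) = el (nw ++ RW (kk i)) := by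
      rw [Cfsg.Agent.H24.M12.el_append, el_nw]
      rfl
    rw [h1, fx_el]
    unfold rp
    rw [fx_el]
    exact h

end good

/-! ### Centralizers -/

theorem lp_idx (x : Γ) (k : Fin 24) : lp x (idx k) = idx (x.1.1 k) := by
  change idx (x.1.1 (pos (idx k))) = idx (x.1.1 k)
  exact idx_congr x (by rw [idx_pos])

theorem ng_ne : ∀ k, ng k ≠ k := by decide +kernel

theorem card_cent_le {g : Γ} {k0 : Fin 24} (hinj : Function.Injective (fun t : Fin 5 => lp (g ^ t.val) (idx k0))) :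
    Nat.card (centralizer ({g} : Set Γ)) ≤ 24 - fx g := by
  have h0 : g.1.1 k0 ≠ k0 := by
    intro h
    have h1 : lp (g ^ 0) (idx k0) = lp (g ^ 1) (idx k0) := by
      rw [pow_zero, pow_one, lp_one, lp_idx, h]
    exact absurd (hinj (a₁ := 0) (a₂ := 1) h1) (by decide)
  have hmem : ∀ x : centralizer ({g} : Set Γ), g.1.1 ((x : Γ).1.1 k0) ≠ (x : Γ).1.1 k0 := by
    intro x h
    have h1 : (x : Γ) * g = g * x := mem_centralizer_singleton_iff.1 x.2
    apply h0
    apply (x : Γ).1.1.injective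
    have h2 : ((x : Γ) * g).1.1 k0 = (g * (x : Γ)).1.1 k0 := by rw [h1]
    exact h2.trans h
  have h1 : Nat.card (centralizer ({g} : Set Γ)) ≤ Nat.card {k : Fin 24 // g.1.1 k ≠ k} := by
    refine Nat.card_le_card_of_injective (fun x => ⟨(x : Γ).1.1 k0, hmem x⟩) ?_
    intro x x' hxx
    have h2 : (x : Γ).1.1 k0 = (x' : Γ).1.1 k0 := congrArg Subtype.val hxx
    have h3 : lp (x : Γ) (idx k0) = lp (x' : Γ) (idx k0) := by rw [lp_idx, lp_idx, h2]
    have h4 : ∀ t : Fin 5, lp (x : Γ) (lp (g ^ t.val) (idx k0)) = lp (x' : Γ) (lp (g ^ t.val) (idx k0)) := by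
      intro t
      have e1 : (x : Γ) * g ^ t.val = g ^ t.val * x :=
        (Commute.pow_right (show Commute (x : Γ) g from mem_centralizer_singleton_iff.1 x.2) t.val).eq
      have e2 : (x' : Γ) * g ^ t.val = g ^ t.val * x' :=
        (Commute.pow_right (show Commute (x' : Γ) g from mem_centralizer_singleton_iff.1 x'.2) t.val).eq
      rw [← lp_mul, ← lp_mul, e1, e2, lp_mul, lp_mul, h3]
    rcases eq_of_rows hinj h4 with h5 | h5
    · exact Subtype.ext h5
    · exfalso
      have h6 : (x : Γ).1.1 k0 = ng ((x' : Γ).1.1 k0) := by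
        rw [h5]
        exact Cfsg.Agent.H932.Mt.neg_apply _
      exact ng_ne _ (h6.symm.trans h2)
  refine h1.trans (le_of_eq ?_)
  rw [Nat.card_eq_fintype_card, Fintype.card_subtype]
  have h2 := Finset.card_filter_add_card_filter_not (s := (Finset.univ : Finset (Fin 24))) (fun k => g.1.1 k = k)
  rw [Finset.card_univ, Fintype.card_fin] at h2
  have h3 : (Finset.univ.filter fun k : Fin 24 => g.1.1 k ≠ k).card =
      (Finset.univ.filter fun k : Fin 24 => ¬ g.1.1 k = k).card := rfl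
  unfold fx
  rw [h3]
  omega

theorem lp_rpt (k : ℕ) (t : ℕ) (i : Fin 12) : (lp (rp k ^ t) i).val = aw (rpt t (RW k)) (2 * i.val) / 2 := by
  unfold rp
  rw [← el_rpt, lp_el]

theorem inj_seven : Function.Injective (fun t : Fin 5 => lp (rp 7 ^ t.val) (idx 0)) := by
  have key : ∀ s t : Fin 5, aw (rpt s.val (RW 7)) 0 / 2 = aw (rpt t.val (RW 7)) 0 / 2 → s = t := by decide +kernel
  intro s t h
  apply key
  have h1 := congrArg Fin.val h
  simp only [lp_rpt] at h1
  exact h1

theorem inj_eleven : Function.Injective (fun t : Fin 5 => lp (rp 11 ^ t.val) (idx 0)) := by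
  have key : ∀ s t : Fin 5, aw (rpt s.val (RW 11)) 0 / 2 = aw (rpt t.val (RW 11)) 0 / 2 → s = t := by decide +kernel
  intro s t h
  apply key
  have h1 := congrArg Fin.val h
  simp only [lp_rpt] at h1
  exact h1

theorem fx_seven : fx (rp 7) = 4 := by
  unfold rp
  rw [fx_el]
  decide +kernel

theorem fx_eleven : fx (rp 11) = 2 := by
  unfold rp
  rw [fx_el]
  decide +kernel

theorem card_seven : Nat.card (centralizer ({rp 7} : Set Γ)) ≤ 20 := by
  have h := card_cent_le inj_seven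
  rwa [fx_seven] at h

theorem order_seven : orderOf (rp 7) = 5 := order_rp 7

theorem order_eleven : orderOf (rp 11) = 11 := order_rp 11

theorem pow_eleven : rp 11 ^ 11 = 1 := by
  have h := pow_orderOf_eq_one (rp 11)
  rwa [order_eleven] at h

theorem card_eleven : Nat.card (centralizer ({rp 11} : Set Γ)) = 11 * 2 := by
  have h := card_cent_le inj_eleven
  rw [fx_eleven] at h
  have h1 : 11 ∣ Nat.card (centralizer ({rp 11} : Set Γ)) := by
    have h2 := _root_.orderOf_dvd_natCard (⟨rp 11, mem_centralizer_singleton_iff.2 rfl⟩ : centralizer ({rp 11} : Set Γ))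
    rw [← Subgroup.orderOf_coe] at h2
    rwa [order_eleven] at h2
  have h2 : 2 ∣ Nat.card (centralizer ({rp 11} : Set Γ)) := by
    have h3 := _root_.orderOf_dvd_natCard (⟨neg, mem_centralizer_singleton_iff.2 (neg_comm _)⟩ :
      centralizer ({rp 11} : Set Γ))
    rw [← Subgroup.orderOf_coe] at h3
    have h4 : orderOf neg = 2 := orderOf_eq_prime (by rw [pow_two, neg_mul_neg']) neg_ne_one
    rwa [h4] at h3
  have h3 : 0 < Nat.card (centralizer ({rp 11} : Set Γ)) := Nat.card_pos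
  omega

theorem norm_eleven : Nat.card (normalizer ((zpowers (rp 11) : Subgroup Γ) : Set Γ)) = 5 * (11 * 2) := by
  have : Fact (Nat.Prime 11) := ⟨by norm_num⟩
  obtain ⟨w, m, h3, h4, h5, h6⟩ := exists_w card_G (p := 11) (by norm_num) order_eleven card_eleven
  have h7 : w = 5 := by
    have h8 : w ≤ 10 := Nat.le_of_dvd (by norm_num) h3
    interval_cases w <;> omega
  rw [h4, h7]

theorem rp_twelve : rp 12 = (rp 11)⁻¹ := by
  have h : eqw (RW 12 ++ RW 11) [] = true := by decide +kernel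
  have h1 := el_eq h
  rw [Cfsg.Agent.H24.M12.el_append, Cfsg.Agent.H24.M12.el_nil] at h1
  exact eq_inv_of_mul_eq_one_left h1

theorem not_conj (x : Γ) {z : Γ} (hz : z ∈ sig.ker) : x * rp 11 * x⁻¹ ≠ rp 12 * z := by
  intro h
  rw [rp_twelve] at h
  rcases mem_Z hz with rfl | rfl
  · rw [mul_one] at h
    have : Fact (Nat.Prime 11) := ⟨by norm_num⟩
    have h1 : x * rp 11 ^ 1 * x⁻¹ = rp 11 ^ 10 := by
      rw [pow_one, h, inv_eq_iff_mul_eq_one, ← pow_succ']
      exact pow_eleven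
    have h2 := pow_w (w := 5) order_eleven (by rw [norm_eleven, card_eleven]) (i := 1) (j := 10) (by norm_num) h1
    norm_num at h2
  · have h1 : (x * rp 11 * x⁻¹) ^ 11 = ((rp 11)⁻¹ * neg) ^ 11 := by rw [h]
    have h2 : rp 11 ^ 11 = 1 := pow_eleven
    have h3 : Commute (rp 11)⁻¹ neg := (neg_comm _).symm
    rw [conj_pow, h2, mul_one, mul_inv_cancel, h3.mul_pow, inv_pow, h2, inv_one, one_mul] at h1
    have h4 : neg ^ 11 = neg := by
      rw [show (11 : ℕ) = 2 * 5 + 1 from rfl, pow_succ, pow_mul, pow_two, neg_mul_neg', one_pow, one_mul]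
    rw [h4] at h1
    exact neg_ne_one h1.symm

/-! ### The number of faithful characters -/

theorem eight (c : sig.ker →* ℂˣ) : 8 ≤ Nat.card {χ : IrrCharacter Γ // Lies sig.ker c (χ : Γ → ℂ)} := by
  refine card_lies_ge Z_le c (fun i => rp (kk i)) (good_kk c) ?_
  intro i j hij x z hz h
  have h1 : cd (rp (kk i)) = cd (rp (kk j)) := by
    rw [← cd_conj x, h, cd_mul_Z _ hz]
  rw [cd_rp, cd_rp] at h1
  rcases cd_table i j hij with h2 | ⟨h2, h3⟩ | ⟨h2, h3⟩
  · exact h2 h1
  · rw [h2, h3] at h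
    exact not_conj x hz h
  · rw [h2, h3, rp_twelve] at h
    apply not_conj x (inv_mem hz)
    rw [rp_twelve]
    have h4 : (x * (rp 11)⁻¹ * x⁻¹)⁻¹ = (rp 11 * z)⁻¹ := by rw [h]
    rw [mul_inv_rev, mul_inv_rev, inv_inv, inv_inv, mul_inv_rev] at h4
    rw [mul_assoc, h4]
    exact mem_center_iff.1 (Z_le (inv_mem hz)) _ |>.symm

/-- **`p = 11`.** -/
theorem eleven (c : sig.ker →* ℂˣ) : ∃ χ : IrrCharacter Γ, Lies sig.ker c (χ : Γ → ℂ) ∧ 11 ∣ charDegree (χ : Γ → ℂ) := by
  have : Fact (Nat.Prime 11) := ⟨by norm_num⟩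
  refine exists_dz_card Z_le (by rw [card_Z]; norm_num) (by rw [card_G]; norm_num) order_eleven (k := 1) (w := 5)
    (by rw [card_eleven, card_Z]) (by rw [norm_eleven, card_Z]) c (eight c) (by norm_num)

end Cfsg.Agent.H243.RIM.MTw
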