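import Cfsg.Agent.H243.RIM.MTw
import Cfsg.Agent.H849.RIM.CentCount
import Cfsg.Agent.H665.RIM.Defs
import Cfsg.Agent.H95.StemCover
import Cfsg.Agent.S2035
import Cfsg.Agent.CharactersDeep.MackeyLinear
import Cfsg.Agent.OddOrderCharacters.PF9.Mackey
import Cfsg.Agent.H648.Loc.Value

/-!
# S4816, RIM-S-M12: `M₁₂` (helper243)

* `isIrr_mono` : the monomial character of degree `12` of `2.M₁₂` is irreducible;
* `nball` : `NBall p S`, `p = 3, 5, 11`, `S ≅ M₁₂`.
-/

set_option autoImplicit false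
set_option linter.unusedSectionVars false
set_option maxRecDepth 100000

namespace Cfsg.Agent.H243.RIM.MTw

open Cfsg Subgroup Cfsg.Agent.H24.M12 Cfsg.Agent.H243.RIM Cfsg.Agent.H665.RIM
open Cfsg.Agent.H932.Mt hiding rp
open Cfsg.Agent.H622.Over
open scoped ComplexConjugate

universe u

/-! ### The monomial character -/

/-- the stabilizer of the first row -/
def T : Subgroup Γ where
  carrier := {g | lp g 0 = 0}
  one_mem' := lp_one 0
  mul_mem' := by
    intro a b ha hb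
    change lp (a * b) 0 = 0
    rw [lp_mul, show lp b 0 = 0 from hb]
    exact ha
  inv_mem' := by
    intro a ha
    change lp a⁻¹ 0 = 0
    have h : lp a⁻¹ (lp a 0) = 0 := by rw [← lp_mul, inv_mul_cancel, lp_one]
    rwa [show lp a 0 = 0 from ha] at h

theorem mem_T {g : Γ} : g ∈ T ↔ lp g 0 = 0 := Iff.rfl

theorem pos_or {g : Γ} (hg : g ∈ T) : g.1.1 (pos 0) = pos 0 ∨ g.1.1 (pos 0) = ng (pos 0) := by
  have h5 := eq_pos_or (g.1.1 (pos 0))
  rwa [show idx (g.1.1 (pos 0)) = 0 from hg] at h5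

theorem ng_pos_ne : ng (pos 0) ≠ pos 0 := ng_ne _

/-- the sign at the first row -/
noncomputable def lam : T →* ℂˣ where
  toFun g := if (g : Γ).1.1 (pos 0) = pos 0 then 1 else -1
  map_one' := if_pos rfl
  map_mul' := by
    intro a b
    change (if (a : Γ).1.1 ((b : Γ).1.1 (pos 0)) = pos 0 then (1 : ℂˣ) else -1) = _
    rcases pos_or a.2 with ha | ha <;> rcases pos_or b.2 with hb | hb
    · rw [hb, ha, if_pos rfl, one_mul]
    · rw [hb, ng_comm, ha, if_neg ng_pos_ne, if_pos rfl, one_mul]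
    · rw [hb, ha, if_neg ng_pos_ne, if_pos rfl, mul_one]
    · rw [hb, ng_comm, ha, ng_ng, if_pos rfl, if_neg ng_pos_ne, neg_mul_neg, one_mul]

theorem lam_pos {g : T} (h : (g : Γ).1.1 (pos 0) = pos 0) : lam g = 1 := if_pos h

theorem lam_ng {g : T} (h : (g : Γ).1.1 (pos 0) = ng (pos 0)) : lam g = -1 := if_neg (by rw [h]; exact ng_pos_ne)

theorem pos_of_idx {g : Γ} {i : Fin 12} (h : g.1.1 (pos i) = pos i) {k : Fin 24} (hk : idx k = i) : g.1.1 k = k := by
  subst hk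
  rcases eq_pos_or k with h1 | h1
  · rw [h1]
    exact h
  · have h2 : ng (pos (idx k)) = k := h1.symm
    rw [← h2, ng_comm, h]

theorem ng_of_idx {g : Γ} {i : Fin 12} (h : g.1.1 (pos i) = ng (pos i)) {k : Fin 24} (hk : idx k = i) :
    g.1.1 k = ng k := by
  subst hk
  rcases eq_pos_or k with h1 | h1
  · rw [h1]
    exact h
  · have h2 : ng (pos (idx k)) = k := h1.symm
    rw [← h2, ng_comm, h]

/-- five rows beginning with `0, j` -/
def bj (j : Fin 12) (i : Fin 5) : Fin 12 :=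
  if i = 0 then 0 else ⟨(j.val + 9 + i.val) % 11 + 1, by omega⟩

theorem bj_table : ∀ j : Fin 12, j ≠ 0 → Function.Injective (bj j) ∧ bj j 0 = 0 ∧ bj j 1 = j := by decide +kernel

def aj : Fin 5 → Fin 12 := ![5, 7, 0, 1, 2]

theorem aj_inj : Function.Injective aj := by decide +kernel

theorem t0_pos : (rp 6).1.1 (pos 5) = pos 5 := by
  apply Fin.ext
  unfold rp
  rw [el_val]
  decide +kernel

theorem t0_ng : (rp 6).1.1 (pos 7) = ng (pos 7) := by
  apply Fin.ext
  unfold rp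
  rw [el_val]
  decide +kernel

theorem mackey (x : Γ) (hx : x ∉ T) : ∃ (t : T) (hx : x⁻¹ * t * x ∈ T), lam t ≠ lam ⟨x⁻¹ * t * x, hx⟩ := by
  have hj : lp x 0 ≠ 0 := hx
  obtain ⟨h1, h2, h3⟩ := bj_table (lp x 0) hj
  obtain ⟨h, hh⟩ := exists_rows aj_inj h1
  have e0 : lp h 5 = 0 := (hh 0).trans h2
  have e1 : lp h 7 = lp x 0 := (hh 1).trans h3
  have f0 : lp h⁻¹ 0 = 5 := by rw [← e0, ← lp_mul, inv_mul_cancel, lp_one]
  have f1 : lp h⁻¹ (lp x 0) = 7 := by rw [← e1, ← lp_mul, inv_mul_cancel, lp_one]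
  set t : Γ := h * rp 6 * h⁻¹ with ht
  -- `t` at the row `0`
  have t0 : t.1.1 (pos 0) = pos 0 := by
    change h.1.1 ((rp 6).1.1 (h⁻¹.1.1 (pos 0))) = pos 0
    rw [pos_of_idx t0_pos (show idx (h⁻¹.1.1 (pos 0)) = 5 from f0)]
    exact h.1.1.apply_symm_apply _
  have t1 : t.1.1 (x.1.1 (pos 0)) = ng (x.1.1 (pos 0)) := by
    change h.1.1 ((rp 6).1.1 (h⁻¹.1.1 (x.1.1 (pos 0)))) = ng (x.1.1 (pos 0))
    have e2 : idx (h⁻¹.1.1 (x.1.1 (pos 0))) = 7 := by
      rw [← lp_idx]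
      exact f1
    rw [ng_of_idx t0_ng e2, ng_comm]
    congr 1
    exact h.1.1.apply_symm_apply _
  have t2 : (x⁻¹ * t * x).1.1 (pos 0) = ng (pos 0) := by
    change x⁻¹.1.1 (t.1.1 (x.1.1 (pos 0))) = ng (pos 0)
    rw [t1, ng_comm]
    congr 1
    exact x.1.1.symm_apply_apply _
  have m0 : t ∈ T := by
    rw [mem_T]
    change idx (t.1.1 (pos 0)) = 0
    rw [t0, idx_pos]
  have m2 : x⁻¹ * t * x ∈ T := by
    rw [mem_T]
    change idx ((x⁻¹ * t * x).1.1 (pos 0)) = 0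
    rw [t2, idx_ng, idx_pos]
  refine ⟨⟨t, m0⟩, m2, ?_⟩
  rw [lam_pos (g := ⟨t, m0⟩) t0, lam_ng (g := ⟨x⁻¹ * t * x, m2⟩) t2]
  intro h5
  have h6 := congrArg Units.val h5
  norm_num at h6

/-- the monomial character -/
noncomputable def mono [Fintype Γ] : Γ → ℂ := indFun T (fun t => (lam t : ℂ))

theorem isIrr_mono [Fintype Γ] : IsIrrCharacter Γ mono :=
  Cfsg.Agent.CharactersDeep.MackeyLinear.isIrrCharacter_indFun T lam mackey

theorem index_T : T.index = 12 := by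
  have hsurj : ∀ j : Fin 12, ∃ g : Γ, lp g 0 = j := by
    intro j
    by_cases hj : j = 0
    · exact ⟨1, by rw [hj, lp_one]⟩
    · obtain ⟨h1, h2, h3⟩ := bj_table j hj
      obtain ⟨h, hh⟩ := exists_rows (a := ![0, 1, 2, 3, 4]) (by decide +kernel) (b := bj j ∘ Equiv.swap 0 1)
        (h1.comp (Equiv.injective _))
      refine ⟨h, (hh 0).trans ?_⟩
      simp only [Function.comp_apply, Equiv.swap_apply_left]
      exact h3
  let f : Γ ⧸ T → Fin 12 := Quotient.lift (fun g : Γ => lp g 0) (by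
    intro a b hab
    have h1 : a⁻¹ * b ∈ T := QuotientGroup.leftRel_apply.1 hab
    have h2 : lp (a⁻¹ * b) 0 = 0 := h1
    have h3 : lp (a * (a⁻¹ * b)) 0 = lp a 0 := by rw [lp_mul, h2]
    rw [mul_inv_cancel_left] at h3
    exact h3.symm)
  have hf : Function.Bijective f := by
    constructor
    · intro a b
      obtain ⟨a, rfl⟩ := QuotientGroup.mk_surjective a
      obtain ⟨b, rfl⟩ := QuotientGroup.mk_surjective b
      intro hab
      have h1 : lp a 0 = lp b 0 := hab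
      rw [QuotientGroup.eq]
      change lp (a⁻¹ * b) 0 = 0
      rw [lp_mul, ← h1, ← lp_mul, inv_mul_cancel, lp_one]
    · intro j
      obtain ⟨g, hg⟩ := hsurj j
      exact ⟨(g : Γ ⧸ T), hg⟩
  rw [index_eq_card, Nat.card_congr (Equiv.ofBijective f hf), Nat.card_fin]

theorem mono_one [Fintype Γ] : mono 1 = 12 := by
  unfold mono
  rw [Cfsg.Agent.OddOrderCharacters.PF9.Mackey.indFun_lin_apply_one, index_T]
  norm_num

theorem degree_mono [Fintype Γ] : charDegree mono = 12 := by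
  unfold charDegree
  rw [mono_one]
  norm_num

theorem ext_neg (y : Γ) : extendByZero T (fun t => (lam t : ℂ)) (y * neg) = -extendByZero T (fun t => (lam t : ℂ)) y := by
  have hn : neg ∈ T := by
    rw [mem_T]
    exact lp_neg 0
  by_cases hy : y ∈ T
  · have h1 := S0150.extendByZero_coe T (fun t => (lam t : ℂ)) (⟨y, hy⟩ * ⟨neg, hn⟩)
    have h2 := S0150.extendByZero_coe T (fun t => (lam t : ℂ)) ⟨y, hy⟩
    have h3 : lam ⟨neg, hn⟩ = -1 := lam_ng (g := ⟨neg, hn⟩) (Cfsg.Agent.H932.Mt.neg_apply _)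
    simp only [MulMemClass.mk_mul_mk] at h1 h2
    rw [h1, h2]
    have h4 : lam (⟨y * neg, T.mul_mem hy hn⟩ : T) = lam ⟨y, hy⟩ * lam ⟨neg, hn⟩ := by rw [← map_mul]; rfl
    rw [h4, h3]
    simp
  · have hy' : y * neg ∉ T := fun h => hy (by
      have h1 := T.mul_mem h hn
      rwa [mul_assoc, neg_mul_neg', mul_one] at h1)
    rw [S0150.extendByZero_of_notMem T _ hy, S0150.extendByZero_of_notMem T _ hy', neg_zero]

theorem mono_neg [Fintype Γ] (y : Γ) : mono (y * neg) = -mono y := by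
  unfold mono
  rw [S0150.indFun_apply, S0150.indFun_apply, ← mul_neg, ← Finset.sum_neg_distrib]
  congr 1
  refine Finset.sum_congr rfl fun x _ => ?_
  rw [← ext_neg]
  congr 1
  rw [mul_assoc, mul_assoc, neg_comm, ← mul_assoc, ← mul_assoc]

section main

variable {c : sig.ker →* ℂˣ} (hc : (c ⟨neg, neg_mem_Z⟩ : ℂ) = -1)
include hc

theorem lies_mono [Fintype Γ] : Lies sig.ker c mono := by
  rintro x ⟨n, hn⟩
  rcases mem_Z hn with h1 | h1
  · have h2 : (⟨n, hn⟩ : sig.ker) = 1 := Subtype.ext h1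
    rw [h2, map_one, Units.val_one, mul_one, OneMemClass.coe_one, mul_one]
  · have h2 : (⟨n, hn⟩ : sig.ker) = ⟨neg, neg_mem_Z⟩ := Subtype.ext h1
    rw [h2, hc, mono_neg]
    ring

/-- **`p = 3`.** -/
theorem three : ∃ χ : IrrCharacter Γ, Lies sig.ker c (χ : Γ → ℂ) ∧ 3 ∣ charDegree (χ : Γ → ℂ) := by
  have := Fintype.ofFinite Γ
  refine ⟨⟨mono, isIrr_mono⟩, lies_mono hc, ?_⟩
  change 3 ∣ charDegree mono
  rw [degree_mono]
  norm_num

theorem conj_seven (i : ℕ) (hi : ¬ 5 ∣ i) : IsConj (rp 7) (rp 7 ^ i) := by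
  have h1 : rp 7 ^ i = rp 7 ^ (i % 5) := by
    have h2 := pow_mod_orderOf (rp 7) i
    rw [order_seven] at h2
    exact h2.symm
  rw [h1]
  have h3 : i % 5 < 5 := Nat.mod_lt _ (by norm_num)
  have h4 : i % 5 ≠ 0 := fun h => hi (Nat.dvd_of_mod_eq_zero h)
  have key : ∀ m : Fin 5, m.val ≠ 0 → m.val = 1 ∨ pc 7 m.val = true := by decide +kernel
  rcases key ⟨i % 5, h3⟩ h4 with h5 | h5
  · have h6 : i % 5 = 1 := h5
    rw [h6, pow_one]
  · exact pc_spec h5

/-- **`p = 5`.** -/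
theorem five : ∃ χ : IrrCharacter Γ, Lies sig.ker c (χ : Γ → ℂ) ∧ 5 ∣ charDegree (χ : Γ → ℂ) := by
  classical
  by_contra hcon
  push Not at hcon
  have := Fintype.ofFinite Γ
  have hfin : Finite (IrrCharacter Γ) := Cfsg.Agent.Characters.Core.finite_irr
  have := Fintype.ofFinite (IrrCharacter Γ)
  have h1 := Cfsg.Agent.H849.RIM.sum_norm_sq_over Z_le c (w := rp 7) (by rw [order_seven, card_Z]; norm_num)
  have h2 := eight c
  rw [Nat.card_eq_fintype_card, Fintype.card_subtype] at h2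
  set A : Finset (IrrCharacter Γ) := Finset.univ.filter (fun χ : IrrCharacter Γ => Lies sig.ker c (χ : Γ → ℂ)) with hA
  -- each term
  have hval : ∀ χ ∈ A, ∃ v : ℤ, (χ : Γ → ℂ) (rp 7) = v ∧ (5 : ℤ) ∣ (charDegree (χ : Γ → ℂ) : ℤ) - v := fun χ _ =>
    Cfsg.Agent.H648.Loc.exists_value (by norm_num) order_seven (conj_seven hc) χ.2
  have hnorm : ∀ v : ℤ, ‖((v : ℤ) : ℂ)‖ ^ 2 = ((v ^ 2 : ℤ) : ℝ) := by
    intro v
    rw [Complex.norm_intCast, sq_abs]
    push_cast
    rfl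
  have hge : ∀ χ ∈ A, (1 : ℝ) ≤ ‖(χ : Γ → ℂ) (rp 7)‖ ^ 2 := by
    intro χ hχ
    obtain ⟨v, hv, hv'⟩ := hval χ hχ
    rw [hv, hnorm]
    have h3 : v ≠ 0 := by
      rintro rfl
      rw [sub_zero] at hv'
      exact hcon χ (Finset.mem_filter.1 hχ).2 (by exact_mod_cast hv')
    have h4 : 1 ≤ v ^ 2 := by
      have h5 : 0 < v ^ 2 := by positivity
      omega
    exact_mod_cast h4
  set m : IrrCharacter Γ := ⟨mono, isIrr_mono⟩ with hm
  have hmA : m ∈ A := Finset.mem_filter.2 ⟨Finset.mem_univ _, lies_mono hc⟩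
  have hm4 : (4 : ℝ) ≤ ‖(m : Γ → ℂ) (rp 7)‖ ^ 2 := by
    obtain ⟨v, hv, hv'⟩ := hval m hmA
    rw [hv, hnorm]
    have h3 : charDegree (m : Γ → ℂ) = 12 := degree_mono
    rw [h3] at hv'
    have h4 : 4 ≤ v ^ 2 := by
      by_contra h5
      push Not at h5
      have h6 : v ≤ 1 := by nlinarith
      have h7 : -1 ≤ v := by nlinarith
      interval_cases v <;> omega
    exact_mod_cast h4
  have h3 : (11 : ℝ) ≤ ∑ χ ∈ A, ‖(χ : Γ → ℂ) (rp 7)‖ ^ 2 := by
    rw [← Finset.add_sum_erase A _ hmA]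
    have h4 : ((A.erase m).card : ℝ) ≤ ∑ χ ∈ A.erase m, ‖(χ : Γ → ℂ) (rp 7)‖ ^ 2 := by
      calc ((A.erase m).card : ℝ) = ∑ _χ ∈ A.erase m, (1 : ℝ) := by rw [Finset.sum_const, nsmul_eq_mul, mul_one]
        _ ≤ _ := Finset.sum_le_sum fun χ hχ => hge χ (Finset.mem_of_mem_erase hχ)
    have h5 : 7 ≤ (A.erase m).card := by
      rw [Finset.card_erase_of_mem hmA]
      omega
    have h6 : (7 : ℝ) ≤ ((A.erase m).card : ℝ) := by exact_mod_cast h5
    linarith
  have h4 : (Nat.card (centralizer ({rp 7} : Set Γ)) : ℝ) ≤ 20 := by exact_mod_cast card_seven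
  rw [card_Z] at h1
  push_cast at h1
  linarith

theorem all {p : ℕ} (hp : p = 3 ∨ p = 5 ∨ p = 11) :
    ∃ χ : IrrCharacter Γ, Lies sig.ker c (χ : Γ → ℂ) ∧ p ∣ charDegree (χ : Γ → ℂ) := by
  rcases hp with rfl | rfl | rfl
  · exact three hc
  · exact five hc
  · exact eleven c

end main

theorem perfect_M12 : commutator Spor.M12 = ⊤ := by
  rw [eq_top_iff]
  intro u _
  obtain ⟨g, rfl⟩ := sig_surjective u
  obtain ⟨a, b, hab⟩ := Cfsg.Agent.H109.QO.MTwelve.allC_Gam g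
  rw [hab, map_mul, map_mul, map_mul, map_inv, map_inv, ← commutatorElement_def]
  exact Subgroup.commutator_mem_commutator (Subgroup.mem_top _) (Subgroup.mem_top _)

/-- **Row `M₁₂`.** -/
theorem nball {S : Type u} [Group S] [Finite S] (h : Spor.IsoM12 S) {p : ℕ} (hp : p = 3 ∨ p = 5 ∨ p = 11) :
    NBall p S := by
  obtain ⟨e⟩ := h
  intro m hm _ E _ _ π hπ hπc hE hk l hl
  set π' : E →* Spor.M12 := e.toMonoidHom.comp π with hπ'
  have hs : Function.Surjective π' := e.surjective.comp hπ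
  have hker : π'.ker = π.ker := by
    ext x
    rw [MonoidHom.mem_ker, MonoidHom.mem_ker]
    show e (π x) = 1 ↔ π x = 1
    rw [map_eq_one_iff e e.injective]
  have hcen : π'.ker ≤ center E := by rw [hker]; exact hπc
  -- the kernel has order two
  have hm2 : m = 2 := by
    have h1 := Cfsg.Agent.H95.StemCover.card_ker_dvd_cyclic Cfsg.Agent.S2035.result hE π' hs hcen
    rw [hker, hk] at h1
    have h2 := Nat.le_of_dvd (by norm_num) h1
    omega
  subst hm2
  -- the isomorphism with the model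
  obtain ⟨φ, hφ, hφs⟩ := Cfsg.Agent.H95.StemCover.exists_cover' perfect_M12 Cfsg.Agent.S2035.result sig
    (Cfsg.Agent.H95.StemCover.isStem Cfsg.Agent.H109.QO.MTwelve.perfect sig_surjective Z_le)
    (by rw [card_Z, Nat.card_congr Multiplicative.toAdd, Nat.card_zmod]) hE π' hs hcen
  have hcard : Nat.card E = Nat.card Γ := by
    have h1 := card_eq_card_quotient_mul_card_subgroup π'.ker
    have h2 := card_eq_card_quotient_mul_card_subgroup sig.ker
    rw [Nat.card_congr (QuotientGroup.quotientKerEquivOfSurjective π' hs).toEquiv, hker, hk] at h1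
    rw [Nat.card_congr (QuotientGroup.quotientKerEquivOfSurjective sig sig_surjective).toEquiv, card_Z] at h2
    rw [h1, h2]
  have hbij : Function.Bijective φ := by
    rw [Nat.bijective_iff_surjective_and_card]
    exact ⟨hφ, hcard.symm⟩
  let Φ : Γ ≃* E := MulEquiv.ofBijective φ hbij
  have hmem : ∀ z : sig.ker, φ (z : Γ) ∈ π.ker := by
    intro z
    rw [← hker, MonoidHom.mem_ker, hφs]
    exact z.2
  let c : sig.ker →* ℂˣ := l.comp ((φ.comp sig.ker.subtype).codRestrict π.ker hmem)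
  have hc : (c ⟨neg, neg_mem_Z⟩ : ℂ) = -1 := by
    have h1 : c ⟨neg, neg_mem_Z⟩ * c ⟨neg, neg_mem_Z⟩ = 1 := by
      rw [← map_mul]
      have h2 : (⟨neg, neg_mem_Z⟩ * ⟨neg, neg_mem_Z⟩ : sig.ker) = 1 := Subtype.ext neg_mul_neg'
      rw [h2, map_one]
    have h2 : c ⟨neg, neg_mem_Z⟩ ≠ 1 := by
      intro h3
      have h4 : l ⟨φ neg, hmem ⟨neg, neg_mem_Z⟩⟩ = l 1 := by
        rw [map_one]
        exact h3
      have h5 := congrArg Subtype.val (hl h4)
      have h6 : φ neg = φ 1 := by rw [map_one]; exact h5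
      exact neg_ne_one (hbij.1 h6)
    have h3 : ((c ⟨neg, neg_mem_Z⟩ : ℂˣ) : ℂ) * ((c ⟨neg, neg_mem_Z⟩ : ℂˣ) : ℂ) = 1 := by
      rw [← Units.val_mul, h1, Units.val_one]
    rcases mul_self_eq_one_iff.1 h3 with h4 | h4
    · exact absurd (Units.ext h4) h2
    · exact h4
  obtain ⟨χ, h1, h2⟩ := all hc hp
  have hone : ((χ : Γ → ℂ) ∘ Φ.symm) 1 = (χ : Γ → ℂ) 1 := by
    rw [Function.comp_apply, map_one]
  refine ⟨(χ : Γ → ℂ) ∘ Φ.symm, Cfsg.Agent.Characters.Core.isIrr_comp Φ.symm.toMonoidHom Φ.symm.surjective χ.2,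
    fun z => ?_, ?_⟩
  · rw [hone, Function.comp_apply]
    set y : Γ := Φ.symm (z : E) with hy
    have hyz : φ y = z := Φ.apply_symm_apply (z : E)
    have hyk : y ∈ sig.ker := by
      rw [MonoidHom.mem_ker, ← hφs, hyz]
      have h3 : (z : E) ∈ π'.ker := by rw [hker]; exact z.2
      exact h3
    have h3 := h1 1 ⟨y, hyk⟩
    rw [one_mul] at h3
    rw [show (χ : Γ → ℂ) y = _ from h3]
    have h4 : c ⟨y, hyk⟩ = l z := by
      change l ⟨φ y, hmem ⟨y, hyk⟩⟩ = l z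
      congr 1
      exact Subtype.ext hyz
    rw [h4]
  · have h3 : charDegree ((χ : Γ → ℂ) ∘ Φ.symm) = charDegree (χ : Γ → ℂ) := by
      unfold charDegree
      rw [hone]
    rw [h3]
    exact h2

end Cfsg.Agent.H243.RIM.MTw
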