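import Cfsg.Agent.H243.RIM.Cls
import Cfsg.Agent.H849.RIM.DzCount
import Cfsg.Agent.H665.RIM.Defs
import Cfsg.Agent.H95.StemCover
import Cfsg.Agent.S2112
import Cfsg.Agent.S2238
import Cfsg.Agent.S0330
import Cfsg.Agent.S0324
import Cfsg.Agent.OddCyclic.ClaimC.SzIso

/-!
# S4816, RIM-X-SZ8: `Sz(8)` (helper243)

* `nball` : `NBall p S`, `p = 5, 7, 13`, `S ≅ Sz(8)`.
-/

set_option autoImplicit false
set_option linter.unusedSectionVars false

namespace Cfsg.Agent.H243.RIM.Sz8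

open Subgroup Cfsg.Agent.H665.RIM Cfsg.Agent.H243.RIM Cfsg.Agent.H622.Over
open Cfsg.Agent.H849.RIM (exists_dz_quot)

universe u v

/-- the order and the spectrum -/
structure SzNum (Q : Type*) [Group Q] : Prop where
  card : Nat.card Q = 29120
  spec : ∀ g : Q, g ^ 4 = 1 ∨ g ^ 5 = 1 ∨ g ^ 7 = 1 ∨ g ^ 13 = 1

theorem SzNum.congr {Q Q' : Type*} [Group Q] [Group Q'] (e : Q ≃* Q') (h : SzNum Q) : SzNum Q' where
  card := by rw [← Nat.card_congr e.toEquiv, h.card]
  spec g := by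
    have key : ∀ n, e.symm g ^ n = 1 → g ^ n = 1 := fun n hn => by
      have := congrArg e hn
      rwa [map_pow, e.apply_symm_apply, map_one] at this
    rcases h.spec (e.symm g) with h1 | h1 | h1 | h1
    · exact Or.inl (key _ h1)
    · exact Or.inr (Or.inl (key _ h1))
    · exact Or.inr (Or.inr (Or.inl (key _ h1)))
    · exact Or.inr (Or.inr (Or.inr (key _ h1)))

theorem szNum {F : Type*} [Field F] [Fintype F] (hF : Fintype.card F = 8) : SzNum (Cfsg.Sz F 1) := by
  have hF3 : Fintype.card F = 2 ^ (2 * 1 + 1) := by rw [hF]; norm_num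
  refine ⟨?_, ?_⟩
  · rw [Cfsg.Agent.S0324.result le_rfl hF3]
    norm_num
  · intro g
    by_cases h1 : g = 1
    · exact Or.inl (by rw [h1, one_pow])
    obtain ⟨W, ⟨hW, hgW⟩, -⟩ := Cfsg.Agent.S2238.result le_rfl hF3 g h1
    rcases hW with ⟨P, rfl⟩ | ⟨-, hW⟩
    · left
      have h2 := (Cfsg.Agent.S0330.result le_rfl hF3 P).2.1
      have h3 := Monoid.pow_exponent_eq_one (G := (P : Subgroup (Cfsg.Sz F 1))) ⟨g, hgW⟩
      rw [h2] at h3
      exact congrArg Subtype.val h3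
    · have h3 : (⟨g, hgW⟩ : W) ^ Nat.card W = 1 := pow_card_eq_one'
      have h4 : g ^ Nat.card W = 1 := congrArg Subtype.val h3
      rcases hW with hW | hW | hW
      · rw [hW] at h4
        exact Or.inr (Or.inr (Or.inl h4))
      · rw [hW] at h4
        exact Or.inr (Or.inr (Or.inr h4))
      · rw [hW] at h4
        exact Or.inr (Or.inl h4)

theorem szNum' {F : Type*} [Field F] [Fintype F] (hF : Fintype.card F = 8) : SzNum ↥(Cfsg.Lie.Sz F 4) := by
  obtain ⟨e⟩ := Cfsg.Agent.OddCyclic.ClaimC.SzIso.iso (F := F) (m := 1) le_rfl (by rw [hF]; norm_num)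
  exact (szNum hF).congr e

section num

variable {Q : Type*} [Group Q] [Finite Q] (h : SzNum Q)
include h

theorem no_order {p : ℕ} [hp : Fact p.Prime] (hp2 : p ≠ 2) (g : Q) (q : ℕ) (hq : q.Prime) (hqp : q ≠ p) :
    orderOf g ≠ p * q := by
  intro ho
  have hpp : p.Prime := hp.out
  have key : ∀ r : ℕ, r.Prime → g ^ r = 1 → False := by
    intro r hr hg
    have h1 := orderOf_dvd_of_pow_eq_one hg
    rw [ho] at h1
    have h2 : p = r := (Nat.prime_dvd_prime_iff_eq hpp hr).1 ((dvd_mul_right p q).trans h1)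
    have h3 : q = r := (Nat.prime_dvd_prime_iff_eq hq hr).1 ((dvd_mul_left q p).trans h1)
    exact hqp (h3.trans h2.symm)
  rcases h.spec g with h1 | h1 | h1 | h1
  · have h2 := orderOf_dvd_of_pow_eq_one h1
    rw [ho] at h2
    have h3 : p ∣ 2 ^ 2 := (dvd_mul_right p q).trans h2
    exact hp2 ((Nat.prime_dvd_prime_iff_eq hpp Nat.prime_two).1 (hpp.dvd_of_dvd_pow h3))
  · exact key 5 (by norm_num) h1
  · exact key 7 (by norm_num) h1
  · exact key 13 (by norm_num) h1

/-- the data of the element of order `p` -/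
theorem exists_elt {p : ℕ} [hp : Fact p.Prime] (hp2 : p ≠ 2) (h1 : p ∣ 29120) (h2 : ¬ p ^ 2 ∣ 29120) :
    ∃ y : Q, orderOf y = p ∧ Nat.card (centralizer ({y} : Set Q)) = p * 1 ∧
      ∃ w m : ℕ, w ∣ p - 1 ∧ Nat.card (normalizer ((zpowers y : Subgroup Q) : Set Q)) = w * (p * 1) ∧
      29120 = m * (w * (p * 1)) ∧ m % p = 1 := by
  obtain ⟨y, hy⟩ := exists_prime_orderOf_dvd_card' (G := Q) p (by rw [h.card]; exact h1)
  have h3 : Nat.card (centralizer ({y} : Set Q)) = p * 1 := by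
    rw [mul_one]
    exact card_centralizer hy (by rw [h.card]; exact h2) fun g q hq hqp => no_order h hp2 g q hq hqp
  exact ⟨y, hy, h3, exists_w h.card h2 hy h3⟩

theorem elt5 : ∃ y : Q, orderOf y = 5 ∧ Nat.card (centralizer ({y} : Set Q)) = 5 * 1 ∧
    Nat.card (normalizer ((zpowers y : Subgroup Q) : Set Q)) = 4 * (5 * 1) := by
  have : Fact (Nat.Prime 5) := ⟨by norm_num⟩
  obtain ⟨y, h1, h2, w, m, h3, h4, h5, h6⟩ := exists_elt h (p := 5) (by norm_num) (by norm_num) (by norm_num)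
  refine ⟨y, h1, h2, ?_⟩
  have h7 : w = 4 := by
    have h8 : w ≤ 4 := Nat.le_of_dvd (by norm_num) h3
    interval_cases w <;> omega
  rw [h4, h7]

theorem elt7 : ∃ y : Q, orderOf y = 7 ∧ Nat.card (centralizer ({y} : Set Q)) = 7 * 1 ∧
    Nat.card (normalizer ((zpowers y : Subgroup Q) : Set Q)) = 2 * (7 * 1) := by
  have : Fact (Nat.Prime 7) := ⟨by norm_num⟩
  obtain ⟨y, h1, h2, w, m, h3, h4, h5, h6⟩ := exists_elt h (p := 7) (by norm_num) (by norm_num) (by norm_num)
  refine ⟨y, h1, h2, ?_⟩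
  have h7 : w = 2 := by
    have h8 : w ≤ 6 := Nat.le_of_dvd (by norm_num) h3
    interval_cases w <;> omega
  rw [h4, h7]

theorem elt13 : ∃ y : Q, orderOf y = 13 ∧ Nat.card (centralizer ({y} : Set Q)) = 13 * 1 ∧
    Nat.card (normalizer ((zpowers y : Subgroup Q) : Set Q)) = 4 * (13 * 1) := by
  have : Fact (Nat.Prime 13) := ⟨by norm_num⟩
  obtain ⟨y, h1, h2, w, m, h3, h4, h5, h6⟩ := exists_elt h (p := 13) (by norm_num) (by norm_num) (by norm_num)
  refine ⟨y, h1, h2, ?_⟩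
  have h7 : w = 4 := by
    have h8 : w ≤ 12 := Nat.le_of_dvd (by norm_num) h3
    interval_cases w <;> omega
  rw [h4, h7]

/-- eight classes of elements of odd order -/
theorem exists_classes [DecidableEq (ConjClasses Q)] : ∃ F : Finset (ConjClasses Q), F.card = 8 ∧
    ∀ C ∈ F, ∃ g : Q, ConjClasses.mk g = C ∧ (orderOf g).Coprime 2 := by
  have : Fact (Nat.Prime 5) := ⟨by norm_num⟩
  have : Fact (Nat.Prime 7) := ⟨by norm_num⟩
  have : Fact (Nat.Prime 13) := ⟨by norm_num⟩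
  obtain ⟨a, a1, a2, a3⟩ := elt5 h
  obtain ⟨b, b1, b2, b3⟩ := elt7 h
  obtain ⟨c, c1, c2, c3⟩ := elt13 h
  obtain ⟨A1, A2⟩ := card_image_pow a1 (w := 4) (by rw [a3, a2]) {1} (by decide) (by decide)
  obtain ⟨B1, B2⟩ := card_image_pow b1 (w := 2) (by rw [b3, b2]) {1, 2, 3} (by decide) (by decide)
  obtain ⟨C1, C2⟩ := card_image_pow c1 (w := 4) (by rw [c3, c2]) {1, 2, 4} (by decide) (by decide)
  let Fn : ℕ → Finset (ConjClasses Q) := fun n =>
    if n = 1 then {ConjClasses.mk 1} else if n = 5 then Finset.image (fun i => ConjClasses.mk (a ^ i)) {1}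
    else if n = 7 then Finset.image (fun i => ConjClasses.mk (b ^ i)) {1, 2, 3}
    else Finset.image (fun i => ConjClasses.mk (c ^ i)) {1, 2, 4}
  have hFn : ∀ n ∈ ({1, 5, 7, 13} : Finset ℕ), ∀ C ∈ Fn n, ∃ g : Q, ConjClasses.mk g = C ∧ orderOf g = n := by
    intro n hn
    simp only [Finset.mem_insert, Finset.mem_singleton] at hn
    rcases hn with rfl | rfl | rfl | rfl
    · intro C hC
      have hC' : C ∈ ({ConjClasses.mk 1} : Finset (ConjClasses Q)) := hC
      exact ⟨1, (Finset.mem_singleton.1 hC').symm, orderOf_one⟩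
    · exact A2
    · exact B2
    · exact C2
  refine ⟨({1, 5, 7, 13} : Finset ℕ).biUnion Fn, ?_, ?_⟩
  · rw [card_biUnion _ _ hFn]
    have e1 : (Fn 1).card = 1 := Finset.card_singleton _
    have e2 : (Fn 5).card = 1 := A1
    have e3 : (Fn 7).card = 3 := B1
    have e4 : (Fn 13).card = 3 := C1
    rw [Finset.sum_insert (by decide), Finset.sum_insert (by decide), Finset.sum_insert (by decide),
      Finset.sum_singleton, e1, e2, e3, e4]
    rfl
  · intro C hC
    obtain ⟨n, hn, hC'⟩ := Finset.mem_biUnion.1 hC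
    obtain ⟨g, hg, ho⟩ := hFn n hn C hC'
    refine ⟨g, hg, ?_⟩
    rw [ho]
    simp only [Finset.mem_insert, Finset.mem_singleton] at hn
    rcases hn with rfl | rfl | rfl | rfl <;> decide

end num

/-- a central extension with kernel of order two -/
theorem exists_dvd {E : Type u} [Group E] [Finite E] {Z : Subgroup E} [Z.Normal] (hZ : Z ≤ center E)
    (hZ2 : Nat.card Z = 2) (h : SzNum (E ⧸ Z)) (c : Z →* ℂˣ) {p : ℕ} (hp : p = 5 ∨ p = 7 ∨ p = 13) :
    ∃ χ : IrrCharacter E, Lies Z c (χ : E → ℂ) ∧ p ∣ charDegree (χ : E → ℂ) := by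
  classical
  obtain ⟨F, hF, hF'⟩ := exists_classes h
  rw [← hZ2] at hF'
  rcases hp with rfl | rfl | rfl
  · have : Fact (Nat.Prime 5) := ⟨by norm_num⟩
    obtain ⟨y, h1, h2, h3⟩ := elt5 h
    exact exists_dz_quot hZ (by rw [hZ2]; norm_num) (by rw [h.card]; norm_num) h1 h2 h3 c F hF' (by rw [hF]; norm_num)
  · have : Fact (Nat.Prime 7) := ⟨by norm_num⟩
    obtain ⟨y, h1, h2, h3⟩ := elt7 h
    exact exists_dz_quot hZ (by rw [hZ2]; norm_num) (by rw [h.card]; norm_num) h1 h2 h3 c F hF' (by rw [hF]; norm_num)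
  · have : Fact (Nat.Prime 13) := ⟨by norm_num⟩
    obtain ⟨y, h1, h2, h3⟩ := elt13 h
    exact exists_dz_quot hZ (by rw [hZ2]; norm_num) (by rw [h.card]; norm_num) h1 h2 h3 c F hF' (by rw [hF]; norm_num)

/-- **Row `Sz(8)`.** -/
theorem nball {S : Type u} [Group S] [Finite S] {F : Type v} [Field F] [Fintype F] (hF : Fintype.card F = 8)
    (e : S ≃* ↥(Cfsg.Lie.Sz F 4)) {p : ℕ} (hp : p = 5 ∨ p = 7 ∨ p = 13) : NBall p S := by
  intro m hm _ E _ _ π hπ hπc hE hk l hl
  -- the kernel has order two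
  have hm2 : m = 2 := by
    have hπ' : Function.Surjective (e.toMonoidHom.comp π) := e.surjective.comp hπ
    have hker : (e.toMonoidHom.comp π).ker = π.ker := by
      ext x
      rw [MonoidHom.mem_ker, MonoidHom.mem_ker]
      show e (π x) = 1 ↔ π x = 1
      rw [map_eq_one_iff e e.injective]
    obtain ⟨f, hf⟩ := Cfsg.Agent.H95.StemCover.exists_surj_ker (Cfsg.Agent.S2112.result hF) hE (e.toMonoidHom.comp π) hπ'
      (by rw [hker]; exact hπc)
    have hsq : ∀ z : π.ker, z * z = 1 := by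
      intro z
      obtain ⟨a, ha⟩ := hf ⟨z, by rw [hker]; exact z.2⟩
      have h1 : f (a * a) = 1 := by
        have h2 : ∀ a : Multiplicative (ZMod 2 × ZMod 2), a * a = 1 := by decide
        rw [h2, map_one]
      rw [map_mul, ha] at h1
      have h2 := congrArg Subtype.val h1
      exact Subtype.ext h2
    have hl2 : ∀ z : π.ker, (l z : ℂ) = 1 ∨ (l z : ℂ) = -1 := by
      intro z
      have h1 : (l z : ℂ) * (l z : ℂ) = 1 := by
        rw [← Units.val_mul, ← map_mul, hsq, map_one, Units.val_one]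
      exact mul_self_eq_one_iff.1 h1
    classical
    let g : π.ker → Bool := fun z => decide ((l z : ℂ) = 1)
    have hg : Function.Injective g := by
      intro a b hab
      apply hl
      apply Units.ext
      have h1 : ((l a : ℂ) = 1) ↔ ((l b : ℂ) = 1) := by
        have := hab
        simp only [g, decide_eq_decide] at this
        exact this
      rcases hl2 a with h2 | h2
      · rw [h2, h1.1 h2]
      · rcases hl2 b with h3 | h3
        · rw [h3, h1.2 h3]
        · rw [h2, h3]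
    have h1 := Nat.card_le_card_of_injective g hg
    rw [hk, Nat.card_eq_fintype_card, Fintype.card_bool] at h1
    omega
  subst hm2
  have h1 : SzNum (E ⧸ π.ker) :=
    (szNum' hF).congr ((QuotientGroup.quotientKerEquivOfSurjective π hπ).trans e).symm
  obtain ⟨χ, h2, h3⟩ := exists_dvd hπc hk h1 l hp
  refine ⟨χ, χ.2, fun z => ?_, h3⟩
  have h4 := h2 1 z
  rwa [one_mul] at h4

/-- **Row `Sz(8)`**, by the order. -/
theorem nball_of_card {S : Type u} [Group S] [Finite S] (h : Cfsg.Lie.IsoSuzuki S) (hS : Nat.card S = 29120) {p : ℕ}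
    (hp : p = 5 ∨ p = 7 ∨ p = 13) : NBall p S := by
  obtain ⟨F, _, _, m, hm, hF, ⟨e⟩⟩ := h
  obtain ⟨e'⟩ := Cfsg.Agent.OddCyclic.ClaimC.SzIso.iso (F := F) (m := m) hm hF
  have h1 : (2 ^ (2 * m + 1)) ^ 2 * ((2 ^ (2 * m + 1)) ^ 2 + 1) * (2 ^ (2 * m + 1) - 1) = 29120 := by
    rw [← Cfsg.Agent.S0324.result hm hF, Nat.card_congr e'.toEquiv, ← Nat.card_congr e.toEquiv, hS]
  have hm1 : m = 1 := by
    by_contra hne
    have h2 : 2 ^ 5 ≤ 2 ^ (2 * m + 1) := Nat.pow_le_pow_right (by norm_num) (by omega)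
    generalize 2 ^ (2 * m + 1) = q at h1 h2
    have h3 : 32 ^ 2 ≤ q ^ 2 := Nat.pow_le_pow_left h2 2
    have h4 : 32 ^ 2 * (32 ^ 2 + 1) ≤ q ^ 2 * (q ^ 2 + 1) := Nat.mul_le_mul h3 (by omega)
    have h5 : q ^ 2 * (q ^ 2 + 1) * 1 ≤ q ^ 2 * (q ^ 2 + 1) * (q - 1) := Nat.mul_le_mul_left _ (by omega)
    omega
  subst hm1
  have hF8 : Fintype.card F = 8 := by rw [hF]; norm_num
  exact nball hF8 e hp

end Cfsg.Agent.H243.RIM.Sz8
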